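import Cfsg.Agent.H361.SelfCent
import Cfsg.Agent.H363.Frat
import Cfsg.Agent.Lib.SubnormalJoin
import Cfsg.Agent.H408.SylCong

/-!
# Finite groups with a Sylow subgroup of prime order (helper468, for S4388)

`struct`: `x` of order `p`, `p² ∤ |H|`: there is a simple group `N` (a chief factor) with `p ∣ |N|` such that for every
prime `r ≠ p`, `r ^ v` the exact power of `r` in `|H|`, some `i ≤ v` satisfies `r ^ i ≡ 1 (mod p)`,
`|N| r ^ i ∣ |H|` and `r ^ (v - i) ∣ |N| |N_H(⟨x⟩)|`.
-/

set_option autoImplicit false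

namespace Cfsg.Agent.H468.HCS

open Subgroup
open scoped Pointwise

universe u

/-- there is a largest normal subgroup of order prime to `p` -/
theorem exists_core {H : Type u} [Group H] [Finite H] {p : ℕ} (hp : p.Prime) :
    ∃ K : Subgroup H, K.Normal ∧ ¬ p ∣ Nat.card K ∧
      ∀ M : Subgroup H, M.Normal → ¬ p ∣ Nat.card M → K ≤ M → M = K := by
  have hfin : Set.Finite {K : Subgroup H | K.Normal ∧ ¬ p ∣ Nat.card K} := Set.toFinite _
  obtain ⟨K, hK⟩ := hfin.exists_maximal ⟨⊥, inferInstance, by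
    rw [card_bot]; exact fun h => hp.one_lt.ne' (Nat.dvd_one.1 h)⟩
  exact ⟨K, hK.1.1, hK.1.2, fun M h1 h2 h3 => le_antisymm (hK.2 ⟨h1, h2⟩ h3) h3⟩

theorem card_comap_mk {H : Type u} [Group H] [Finite H] (K : Subgroup H) [K.Normal] (M : Subgroup (H ⧸ K)) :
    Nat.card (M.comap (QuotientGroup.mk' K)) = Nat.card K * Nat.card M := by
  have h1 : (M.comap (QuotientGroup.mk' K)).index = M.index :=
    index_comap_of_surjective _ (QuotientGroup.mk'_surjective K)
  have h2 := card_mul_index (M.comap (QuotientGroup.mk' K))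
  have h3 := card_mul_index M
  have h4 : Nat.card H = Nat.card (H ⧸ K) * Nat.card K := Subgroup.card_eq_card_quotient_mul_card_subgroup K
  rw [h1] at h2
  have h5 : M.index ≠ 0 := Subgroup.index_ne_zero_of_finite
  apply Nat.eq_of_mul_eq_mul_right (Nat.pos_of_ne_zero h5)
  rw [h2, h4, ← h3]
  ring

/-- a chief factor -/
theorem exists_chief {H : Type u} [Group H] [Finite H] {p : ℕ} (hp : p.Prime) (hpH : p ∣ Nat.card H)
    (hp2 : ¬ p ^ 2 ∣ Nat.card H) : ∃ K M : Subgroup H, K.Normal ∧ M.Normal ∧ K ≤ M ∧ ¬ p ∣ Nat.card K ∧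
      ∃ (N : Type u) (_ : Group N) (_ : Finite N), IsSimpleGroup N ∧ p ∣ Nat.card N ∧
        Nat.card M = Nat.card K * Nat.card N := by
  obtain ⟨K, hK, hpK, hmax⟩ := exists_core (H := H) hp
  have h4 : Nat.card H = Nat.card (H ⧸ K) * Nat.card K := Subgroup.card_eq_card_quotient_mul_card_subgroup K
  have hpQ : p ∣ Nat.card (H ⧸ K) := by
    rw [h4] at hpH
    exact (hp.dvd_mul.1 hpH).resolve_right hpK
  have hnt : Nontrivial (H ⧸ K) := by
    rw [← Finite.one_lt_card_iff_nontrivial]
    exact hp.one_lt.trans_le (Nat.le_of_dvd Nat.card_pos hpQ)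
  obtain ⟨M, hM, hM1, hmin⟩ := Cfsg.Agent.Lib.SubnormalJoin.exists_minimal_normal (H ⧸ K)
  have hle : K ≤ M.comap (QuotientGroup.mk' K) := by
    intro k hk
    have h5 : QuotientGroup.mk' K k = 1 := (QuotientGroup.eq_one_iff k).2 hk
    rw [mem_comap, h5]
    exact M.one_mem
  have hc := card_comap_mk K M
  have hpM : p ∣ Nat.card M := by
    by_contra hcon
    have h5 : M.comap (QuotientGroup.mk' K) = K := hmax _ inferInstance (by
      rw [hc, hp.dvd_mul]
      exact fun h => h.elim hpK hcon) hle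
    apply hM1
    rw [← Subgroup.card_eq_one]
    rw [h5] at hc
    have h6 : 0 < Nat.card K := Nat.card_pos
    exact (Nat.eq_of_mul_eq_mul_left h6 (by rw [mul_one]; exact hc)).symm
  have hp2M : ¬ p ^ 2 ∣ Nat.card M := fun h => hp2 (h.trans ((card_subgroup_dvd_card M).trans (by
    rw [h4]; exact dvd_mul_right _ _)))
  exact ⟨K, M.comap (QuotientGroup.mk' K), hK, inferInstance, hle, hpK, M, inferInstance, inferInstance,
    H363.Frat.isSimple_of_minimal M hmin hp hpM hp2M, hpM, hc⟩

/-- an invariant Sylow subgroup of a normal subgroup of order prime to `p` -/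
theorem exists_inv_sylow {H : Type u} [Group H] [Finite H] {p : ℕ} (hp : p.Prime) {x : H} (hx : orderOf x = p)
    (hp2 : ¬ p ^ 2 ∣ Nat.card H) {K : Subgroup H} [K.Normal] (hpK : ¬ p ∣ Nat.card K) {r : ℕ} (hr : r.Prime) :
    ∃ R : Subgroup H, R ≤ K ∧ Nat.card R = r ^ (Nat.card K).factorization r ∧
      x ∈ normalizer (R : Set H) := by
  have : Fact r.Prime := ⟨hr⟩
  have : Fact p.Prime := ⟨hp⟩
  obtain ⟨R0⟩ : Nonempty (Sylow r K) := inferInstance
  set R1 : Subgroup H := (R0 : Subgroup K).map K.subtype with hR1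
  have hF : normalizer (R1 : Set H) ⊔ K = ⊤ := R0.normalizer_sup_eq_top
  have hR1c : Nat.card R1 = r ^ (Nat.card K).factorization r := by
    rw [← R0.card_eq_multiplicity]
    exact (Nat.card_congr ((R0 : Subgroup K).equivMapOfInjective K.subtype K.subtype_injective).toEquiv).symm
  have hpi : p ∣ K.index := by
    have h1 : p ∣ Nat.card K * K.index := by
      rw [K.card_mul_index, ← hx]
      exact orderOf_dvd_natCard x
    exact (hp.dvd_mul.1 h1).resolve_left hpK
  have hpn : p ∣ Nat.card (normalizer (R1 : Set H)) := by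
    have h3 : K.index ∣ Nat.card (normalizer (R1 : Set H)) := by
      have h4 : K.relIndex (normalizer (R1 : Set H)) = K.index := by
        rw [← Subgroup.relIndex_sup_right, hF, relIndex_top_right]
      rw [← h4]
      exact Subgroup.relIndex_dvd_card _ _
    exact hpi.trans h3
  obtain ⟨⟨y, hy⟩, hyo⟩ := exists_prime_orderOf_dvd_card' p hpn
  have hyo' : orderOf y = p := by rw [← hyo, Subgroup.orderOf_mk]
  obtain ⟨g, -, hg⟩ := H408.SylCong.conj_of_card hp hp2 (H := ⊤) (R := zpowers y) (S := zpowers x)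
    (by rw [Nat.card_zpowers, hyo']) (by rw [Nat.card_zpowers, hx]) le_top le_top
  refine ⟨R1.map (MulAut.conj g).toMonoidHom, ?_, ?_, ?_⟩
  · rintro _ ⟨z, ⟨w, hw, rfl⟩, rfl⟩
    exact (inferInstance : K.Normal).conj_mem _ w.2 g
  · rw [← hR1c]
    exact (Nat.card_congr (R1.equivMapOfInjective _ (MulAut.conj g).injective).toEquiv).symm
  · have h1 : x ∈ MulAut.conj g • (zpowers y : Subgroup H) := by
      rw [hg]; exact mem_zpowers x
    obtain ⟨z, hz, hzx⟩ := h1
    have hz' : z ∈ normalizer (R1 : Set H) := (zpowers_le.2 hy) hz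
    have hzx' : g * z * g⁻¹ = x := hzx
    rw [mem_normalizer_iff] at hz' ⊢
    intro w
    constructor
    · rintro ⟨a, ha, rfl⟩
      refine ⟨z * a * z⁻¹, (hz' a).1 ha, ?_⟩
      rw [← hzx']
      simp [mul_assoc]
    · rintro ⟨a, ha, haw⟩
      refine ⟨z⁻¹ * a * z, ?_, ?_⟩
      · rw [SetLike.mem_coe, hz']
        have : z * (z⁻¹ * a * z) * z⁻¹ = a := by group
        rwa [this]
      · have haw' : g * a * g⁻¹ = x * w * x⁻¹ := haw
        rw [← hzx'] at haw'
        change g * (z⁻¹ * a * z) * g⁻¹ = w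
        have h2 : a = z * (g⁻¹ * w * g) * z⁻¹ := by
          have h3 : a = g⁻¹ * (g * a * g⁻¹) * g := by group
          rw [h3, haw']
          group
        rw [h2]
        group

/-- fixed points modulo `p` -/
theorem card_modEq {H : Type u} [Group H] [Finite H] {p : ℕ} (hp : p.Prime) {x : H} (hx : orderOf x = p)
    {R : Subgroup H} (hR : x ∈ normalizer (R : Set H)) :
    Nat.card R ≡ Nat.card (R ⊓ centralizer ({x} : Set H) : Subgroup H) [MOD p] := by
  have hN := mem_normalizer_iff.1 hR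
  let f : Equiv.Perm R :=
    { toFun := fun w => ⟨x * w * x⁻¹, (hN w).1 w.2⟩
      invFun := fun w => ⟨x⁻¹ * w * x, (hN _).2 (by
        have : x * (x⁻¹ * (w : H) * x) * x⁻¹ = w := by group
        rw [this]; exact w.2)⟩
      left_inv := fun w => Subtype.ext (by simp [mul_assoc])
      right_inv := fun w => Subtype.ext (by simp [mul_assoc]) }
  have hfk : ∀ k : ℕ, ∀ w : R, (((f ^ k) w : R) : H) = x ^ k * w * (x ^ k)⁻¹ := by
    intro k
    induction k with
    | zero => intro w; simp
    | succ k ih =>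
      intro w
      rw [pow_succ', Equiv.Perm.mul_apply]
      change x * ((f ^ k) w : R) * x⁻¹ = _
      rw [ih, pow_succ']
      group
  have hf : f ^ p = 1 := by
    ext w
    rw [hfk, ← hx, pow_orderOf_eq_one]
    simp
  have h1 := H361.SelfCent.card_modEq_of_perm hp f hf
  have h2 : Nat.card {w : R // f w = w} = Nat.card (R ⊓ centralizer ({x} : Set H) : Subgroup H) := by
    refine Nat.card_congr
      { toFun := fun w => ⟨w.1, w.1.2, ?_⟩
        invFun := fun w => ⟨⟨w, w.2.1⟩, ?_⟩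
        left_inv := fun w => rfl
        right_inv := fun w => rfl }
    · refine mem_centralizer_singleton_iff.2 ?_
      have h3 : x * (w.1 : H) * x⁻¹ = w.1 := congrArg Subtype.val w.2
      calc (w.1 : H) * x = (x * (w.1 : H) * x⁻¹) * x := by rw [h3]
        _ = x * w.1 := by group
    · have h3 := mem_centralizer_singleton_iff.1 w.2.2
      apply Subtype.ext
      change x * (w : H) * x⁻¹ = w
      rw [← h3, mul_inv_cancel_right]
  rw [← h2]
  exact h1

/-- **Theorem A**, with a Sylow subgroup normalised by `x` if `i = v`. -/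
theorem struct' {H : Type u} [Group H] [Finite H] {p : ℕ} (hp : p.Prime) {x : H} (hx : orderOf x = p)
    (hp2 : ¬ p ^ 2 ∣ Nat.card H) : ∃ (N : Type u) (_ : Group N) (_ : Finite N), IsSimpleGroup N ∧
      p ∣ Nat.card N ∧ Nat.card N ∣ Nat.card H ∧ ∀ r : ℕ, r.Prime → r ≠ p → ∀ v : ℕ, r ^ v ∣ Nat.card H →
        ¬ r ^ (v + 1) ∣ Nat.card H → ∃ i ≤ v, r ^ i % p = 1 ∧ Nat.card N * r ^ i ∣ Nat.card H ∧
          r ^ (v - i) ∣ Nat.card N * Nat.card (normalizer ((zpowers x : Subgroup H) : Set H)) ∧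
          (i = v → ∃ R : Subgroup H, Nat.card R = r ^ v ∧ x ∈ normalizer (R : Set H)) := by
  have : Fact p.Prime := ⟨hp⟩
  have hpH : p ∣ Nat.card H := by rw [← hx]; exact orderOf_dvd_natCard x
  obtain ⟨K, M, hK, hM, hKM, hpK, N, _, _, hN, hpN, hMc⟩ := exists_chief hp hpH hp2
  have hidx : Nat.card M * M.index = Nat.card H := M.card_mul_index
  refine ⟨N, inferInstance, inferInstance, hN, hpN, ?_, ?_⟩
  · rw [← hidx, hMc]
    exact (dvd_mul_left _ _).mul_right _
  intro r hr hrp v hv hv1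
  have : Fact r.Prime := ⟨hr⟩
  obtain ⟨R, hRK, hRc, hxR⟩ := exists_inv_sylow hp hx hp2 hpK hr
  set k := (Nat.card K).factorization r with hk
  have h1 := card_modEq hp hx hxR
  set C : Subgroup H := R ⊓ centralizer ({x} : Set H) with hC
  have hCd : Nat.card C ∣ r ^ k := by
    rw [← hRc]
    exact card_dvd_of_le inf_le_left
  obtain ⟨c, hc, hCc⟩ := (Nat.dvd_prime_pow hr).1 hCd
  rw [hRc, hCc] at h1
  -- `i = k - c`
  have hi : r ^ (k - c) % p = 1 := by
    have h4 : r ^ c * r ^ (k - c) ≡ r ^ c * 1 [MOD p] := by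
      rw [mul_one, ← pow_add, show c + (k - c) = k by omega]
      exact h1
    have h5 : r ^ (k - c) ≡ 1 [MOD p] := by
      apply Nat.ModEq.cancel_left_of_coprime _ h4
      exact Nat.Coprime.pow_right _ ((Nat.coprime_primes hp hr).2 (Ne.symm hrp))
    have h6 : r ^ (k - c) % p = 1 % p := h5
    rw [h6]
    exact Nat.mod_eq_of_lt hp.one_lt
  -- `|M : K| ...`
  have hrK : r ^ k ∣ Nat.card K := Nat.ordProj_dvd _ _
  have hrK1 : ¬ r ^ (k + 1) ∣ Nat.card K := by
    rw [hr.pow_dvd_iff_le_factorization Nat.card_pos.ne']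
    omega
  -- the Frattini argument
  have hpM : p ∣ Nat.card M := by rw [hMc]; exact hpN.mul_left _
  have hpi : ¬ p ∣ M.index := by
    intro h
    apply hp2
    rw [← hidx, pow_two]
    exact mul_dvd_mul hpM h
  have hxM : x ∈ M := by
    have h2 : (QuotientGroup.mk' M x) ^ p = 1 := by
      rw [← map_pow, ← hx, pow_orderOf_eq_one, map_one]
    have h3 : orderOf (QuotientGroup.mk' M x) ∣ p := orderOf_dvd_of_pow_eq_one h2
    have h4 : orderOf (QuotientGroup.mk' M x) ∣ M.index := orderOf_dvd_natCard _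
    have h5 : orderOf (QuotientGroup.mk' M x) = 1 := by
      rcases (Nat.dvd_prime hp).1 h3 with h | h
      · exact h
      · rw [h] at h4
        exact absurd h4 hpi
    exact (QuotientGroup.eq_one_iff x).1 (orderOf_eq_one_iff.1 h5)
  set Nx : Subgroup H := normalizer ((zpowers x : Subgroup H) : Set H) with hNx
  have hfr : ∀ g : H, ∃ m ∈ M, m * g ∈ Nx := by
    intro g
    obtain ⟨m, hm, hmm⟩ := H408.SylCong.conj_of_card hp hp2 (H := M) (R := MulAut.conj g • (zpowers x : Subgroup H))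
      (S := zpowers x) (by
        rw [← Nat.card_congr (Subgroup.equivSMul (MulAut.conj g) (zpowers x)).toEquiv, Nat.card_zpowers, hx])
      (by rw [Nat.card_zpowers, hx]) (by
        rintro _ ⟨z, hz, rfl⟩
        exact hM.conj_mem z ((zpowers_le.2 hxM) hz) g) (zpowers_le.2 hxM)
    refine ⟨m, hm, ?_⟩
    rw [← mul_smul, ← map_mul] at hmm
    rw [hNx, mem_normalizer_iff]
    intro w
    constructor
    · intro hw
      have h3 : (m * g) * w * (m * g)⁻¹ ∈ MulAut.conj (m * g) • (zpowers x : Subgroup H) := ⟨w, hw, rfl⟩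
      rwa [hmm] at h3
    · intro hw
      have hw' : (m * g) * w * (m * g)⁻¹ ∈ MulAut.conj (m * g) • (zpowers x : Subgroup H) := by
        rw [hmm]; exact hw
      obtain ⟨a, ha, haw⟩ := hw'
      have : a = w := (MulAut.conj (m * g)).injective haw
      rw [← this]
      exact ha
  have hsup : M ⊔ Nx = ⊤ := by
    rw [eq_top_iff]
    intro g _
    obtain ⟨m, hm, hmg⟩ := hfr g
    have : g = m⁻¹ * (m * g) := by group
    rw [this]
    exact mul_mem (mem_sup_left (inv_mem hm)) (mem_sup_right hmg)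
  have hrel : M.relIndex Nx = M.index := by
    rw [← Subgroup.relIndex_sup_right, sup_comm, hsup, relIndex_top_right]
  have hNxc : Nat.card (M ⊓ Nx : Subgroup H) * M.index = Nat.card Nx := by
    rw [← hrel]
    have h2 := Subgroup.card_mul_index (M.subgroupOf Nx)
    have h3 : Nat.card (M.subgroupOf Nx) = Nat.card (M ⊓ Nx : Subgroup H) := by
      rw [← Subgroup.inf_subgroupOf_right]
      exact Nat.card_congr (Subgroup.subgroupOfEquivOfLe inf_le_right).toEquiv
    rw [h3] at h2
    exact h2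
  have hCle : C ≤ M ⊓ Nx := by
    refine le_inf ((inf_le_left.trans hRK).trans hKM) ?_
    intro w hw
    rw [hNx, mem_normalizer_iff]
    have hw' := mem_centralizer_singleton_iff.1 hw.2
    have hz : ∀ z ∈ zpowers x, w * z * w⁻¹ = z := by
      rintro _ ⟨j, rfl⟩
      have h3 : Commute w x := hw'
      have h4 : w * x ^ j = x ^ j * w := h3.zpow_right j
      change w * x ^ j * w⁻¹ = x ^ j
      rw [h4, mul_inv_cancel_right]
    intro z
    constructor
    · intro hzz
      rw [hz z hzz]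
      exact hzz
    · intro hzz
      have h5 : w⁻¹ * (w * z * w⁻¹) * w = w * z * w⁻¹ := by
        have h6 := hz _ hzz
        calc w⁻¹ * (w * z * w⁻¹) * w = w⁻¹ * (w * (w * z * w⁻¹) * w⁻¹) * w := by rw [h6]
          _ = w * z * w⁻¹ := by group
      have h6 : w⁻¹ * (w * z * w⁻¹) * w = z := by group
      rw [← h6, h5]
      exact hzz
  have hcd : r ^ c * M.index ∣ Nat.card Nx := by
    rw [← hNxc, ← hCc]
    exact mul_dvd_mul_right (card_dvd_of_le hCle) _
  -- arithmetic
  have hH : Nat.card H = Nat.card K * Nat.card N * M.index := by rw [← hidx, hMc]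
  have hvv : v = (Nat.card H).factorization r := by
    apply le_antisymm
    · exact (hr.pow_dvd_iff_le_factorization Nat.card_pos.ne').1 hv
    · by_contra hlt
      apply hv1
      rw [hr.pow_dvd_iff_le_factorization Nat.card_pos.ne']
      omega
  have hMi : M.index ≠ 0 := Subgroup.index_ne_zero_of_finite
  have hf : v = k + (Nat.card N).factorization r + M.index.factorization r := by
    rw [hvv, hH, Nat.factorization_mul (mul_ne_zero Nat.card_pos.ne' Nat.card_pos.ne') hMi,
      Nat.factorization_mul Nat.card_pos.ne' Nat.card_pos.ne']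
    rfl
  have hN0 : Nat.card N ≠ 0 := Nat.card_pos.ne'
  refine ⟨k - c, by omega, hi, ?_, ?_, fun hkv => ⟨R, by rw [hRc]; congr 1; omega, hxR⟩⟩
  · rw [hH]
    have h2 : r ^ (k - c) ∣ Nat.card K := (pow_dvd_pow r (by omega)).trans hrK
    obtain ⟨a, ha⟩ := h2
    rw [ha]
    exact ⟨a * M.index, by ring⟩
  · have h2 : Nat.card N * (r ^ c * M.index) ∣ Nat.card N * Nat.card Nx := mul_dvd_mul_left _ hcd
    refine dvd_trans ?_ h2
    rw [hr.pow_dvd_iff_le_factorization (mul_ne_zero hN0 (mul_ne_zero (pow_ne_zero _ hr.ne_zero) hMi)),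
      Nat.factorization_mul hN0 (mul_ne_zero (pow_ne_zero _ hr.ne_zero) hMi),
      Nat.factorization_mul (pow_ne_zero _ hr.ne_zero) hMi, hr.factorization_pow]
    simp only [Finsupp.add_apply, Finsupp.single_eq_same]
    omega

/-- **Theorem A.** -/
theorem struct {H : Type u} [Group H] [Finite H] {p : ℕ} (hp : p.Prime) {x : H} (hx : orderOf x = p)
    (hp2 : ¬ p ^ 2 ∣ Nat.card H) : ∃ (N : Type u) (_ : Group N) (_ : Finite N), IsSimpleGroup N ∧
      p ∣ Nat.card N ∧ Nat.card N ∣ Nat.card H ∧ ∀ r : ℕ, r.Prime → r ≠ p → ∀ v : ℕ, r ^ v ∣ Nat.card H →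
        ¬ r ^ (v + 1) ∣ Nat.card H → ∃ i ≤ v, r ^ i % p = 1 ∧ Nat.card N * r ^ i ∣ Nat.card H ∧
          r ^ (v - i) ∣ Nat.card N * Nat.card (normalizer ((zpowers x : Subgroup H) : Set H)) := by
  obtain ⟨N, iN, fN, h1, h2, h3, h4⟩ := struct' hp hx hp2
  refine ⟨N, iN, fN, h1, h2, h3, fun r hr hrp v hv hv1 => ?_⟩
  obtain ⟨i, hi, h5, h6, h7, -⟩ := h4 r hr hrp v hv hv1
  exact ⟨i, hi, h5, h6, h7⟩

end Cfsg.Agent.H468.HCS
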