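import Cfsg.Agent.H468.HCS.Spor
import Cfsg.Agent.H468.HCS.Tab
import Cfsg.Agent.H839.ElevenMain

/-!
# Row `Fi₂₃` of S4388 (helper468)
-/

set_option autoImplicit false

namespace Cfsg.Agent.H468.HCS

open Subgroup Cfsg Cfsg.Agent.H581 Cfsg.Agent.OrdDiv
open Cfsg.Agent.Lib.PermNet Cfsg.Agent.Fischer.Fi23Hom Cfsg.Agent.LThreeFi23

universe u

theorem no_fi23 (T : OrderTable.{u}) (hS : ∀ (X : Type u) [Group X] [Finite X] [IsSimpleGroup X], IsKnownSimple' X)
    {S : Type u} [Group S] [Finite S] {σ : Set ℕ} (hc : HC S σ) (h : Spor.IsoFi23 S) : False := by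
  have hN : Nat.card S = 4089470473293004800 := NotCT.Orders.fi23 h
  obtain ⟨H, hH⟩ := hc.exists_hall (by rw [hN]; norm_num)
  have hI : H.index ∈ comps [17, 23] := index_mem hc hH (by unfold IsSporadicGroup; tauto) hN
    (m := 10459003768012800) (by norm_num)
    (by norm_num) (by decide) (fun q hq hd hR => H94.PG.Sp.nr_fi23 h hq hd hR) (by norm_num) (by norm_num) (by norm_num)
  have hnr := H94.PG.Sp.nr_fi23 h (r := 11) (by norm_num) (by norm_num) (by decide)
  obtain ⟨e⟩ := h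
  have h11 : Fact (Nat.Prime 11) := ⟨by norm_num⟩
  have hsq : ¬ 11 * 11 ∣ Nat.card S := by rw [hN]; norm_num
  obtain ⟨g, hg⟩ := exists_prime_orderOf_dvd_card' (G := S) 11 (by rw [hN]; norm_num)
  have hx : orderOf (e.symm (elw y11)) = 11 := by
    rw [MulEquiv.orderOf_eq, ← Nat.card_zpowers]
    exact H839.Fi23.card_X11
  have hnorm := norm_all (p := 11) (a := 11 * 40) (by norm_num) hsq hx (by
    rw [card_norm_congr e, e.apply_symm_apply]
    exact H839.Fi23.card_N11)
  exact row T hS hc hH hN (by norm_num) (by norm_num) (mem_of_nr hc hnr) (by norm_num) hnorm (m := 1) (by rw [hg])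
    hI kFi23

end Cfsg.Agent.H468.HCS
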