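import Cfsg.Agent.H468.HCS.Spor
import Cfsg.Agent.H468.HCS.Tab
import Cfsg.Agent.H843.N11

/-!
# Row `Fi₂₄'` of S4388 (helper468)
-/

set_option autoImplicit false

namespace Cfsg.Agent.H468.HCS

open Subgroup Cfsg Cfsg.Agent.H581 Cfsg.Agent.OrdDiv
open Cfsg.Agent.R08.FiTwentyFour (L finite_Fi24)
open Cfsg.Agent.H843
open Cfsg.Spor (Fi24 Fi24')

universe u

theorem mem_comm_of_odd {x : Fi24} (hx : orderOf x = 11) : x ∈ commutator Fi24 := by
  have h1 : x ^ 12 = x := by
    rw [pow_succ, ← hx, pow_orderOf_eq_one, one_mul]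
  rw [← h1, show 12 = 6 * 2 from rfl, pow_mul]
  exact Subgroup.sq_mem_of_index_two Cfsg.Agent.R08.FiTwentyFour.index_commutator _

theorem norm_fi24 : ∃ x : Fi24', orderOf x = 11 ∧
    Nat.card (normalizer ((zpowers x : Subgroup Fi24') : Set Fi24')) = 11 * 120 := by
  have : Finite Fi24 := finite_Fi24
  have hx : D11.D.x ∈ commutator Fi24 := mem_comm_of_odd D11.order
  refine ⟨⟨D11.D.x, hx⟩, by rw [Subgroup.orderOf_mk]; exact D11.order, ?_⟩
  rw [card_norm hx]
  set N : Subgroup Fi24 := normalizer ((zpowers D11.D.x : Subgroup Fi24) : Set Fi24) with hN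
  have h1 : Nat.card ((commutator Fi24).subgroupOf N) * (commutator Fi24).relIndex N = 2640 := by
    rw [← D11.main]
    exact Subgroup.card_mul_index _
  have h2 : (commutator Fi24).relIndex N ∣ 2 := by
    rw [← Cfsg.Agent.R08.FiTwentyFour.index_commutator]
    exact Subgroup.relIndex_dvd_index_of_normal _ _
  have h3 : (commutator Fi24).relIndex N ≠ 1 := by
    intro h
    rw [Subgroup.relIndex_eq_one] at h
    have h4 : Fischer.Fi24Rep.gen .i ∈ N := by
      have h5 : Fischer.Fi24Rep.gen .i ∈ Subgroup.centralizer (Subgroup.zpowers D11.D.x : Set Fi24) :=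
        ((Set.ext_iff.1 D11.inter _).2 (Or.inl rfl)).2
      exact centralizer_le_normalizer _ h5
    exact Cfsg.Agent.R08.FiTwentyFour.odd D11.t1.mem (h h4)
  have h4 : (commutator Fi24).relIndex N = 2 := ((Nat.dvd_prime Nat.prime_two).1 h2).resolve_left h3
  rw [h4] at h1
  omega

theorem no_fi24 (T : OrderTable.{u}) (hS : ∀ (X : Type u) [Group X] [Finite X] [IsSimpleGroup X], IsKnownSimple' X)
    {S : Type u} [Group S] [Finite S] {σ : Set ℕ} (hc : HC S σ) (h : Spor.IsoFi24' S) : False := by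
  have hN : Nat.card S = 1255205709190661721292800 := NotCT.Orders.fi24 h
  obtain ⟨H, hH⟩ := hc.exists_hall (by rw [hN]; norm_num)
  have hI : H.index ∈ comps [17, 23, 29] := index_mem hc hH (by unfold IsSporadicGroup; tauto) hN
    (m := 110698095880647475200) (by norm_num)
    (by norm_num) (by decide) (fun q hq hd hR => H94.PG.Sp.nr_fi24 h hq hd hR) (by norm_num) (by norm_num) (by norm_num)
  have hnr := H94.PG.Sp.nr_fi24 h (r := 11) (by norm_num) (by norm_num) (by decide)
  obtain ⟨e⟩ := h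
  have hsq : ¬ 11 * 11 ∣ Nat.card S := by rw [hN]; norm_num
  obtain ⟨x, hx, hxN⟩ := norm_fi24
  have hx' : orderOf (e.symm x) = 11 := by rw [MulEquiv.orderOf_eq, hx]
  have hnorm := norm_all (p := 11) (a := 11 * 120) (by norm_num) hsq hx' (by
    rw [card_norm_congr e, e.apply_symm_apply]
    exact hxN)
  obtain ⟨g, hg⟩ := exists_elt (q := 2) (by norm_num) (by norm_num) (by norm_num) (by rw [hN]; norm_num)
    hsq hnorm (by norm_num) (by decide)
  exact row T hS hc hH hN (by norm_num) (by norm_num) (mem_of_nr hc hnr) (by norm_num) hnorm hg hI kFi24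

end Cfsg.Agent.H468.HCS
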