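import Cfsg.Agent.H468.HCS.Spor
import Cfsg.Agent.H468.HCS.Tab
import Cfsg.Agent.H413.JOneLocal

/-!
# Row `J₁` of S4388 (helper468)
-/

set_option autoImplicit false

namespace Cfsg.Agent.H468.HCS

open Subgroup Cfsg Cfsg.Agent.H581 Cfsg.Agent.OrdDiv

universe u

theorem no_j1 (T : OrderTable.{u}) (hS : ∀ (X : Type u) [Group X] [Finite X] [IsSimpleGroup X], IsKnownSimple' X)
    {S : Type u} [Group S] [Finite S] {σ : Set ℕ} (hc : HC S σ) (h : Spor.IsoJ1 S) : False := by
  have hN : Nat.card S = 175560 := NotCT.Orders.j1 h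
  obtain ⟨H, hH⟩ := hc.exists_hall (by rw [hN]; norm_num)
  have hI : H.index ∈ comps [7, 11, 19] := index_mem hc hH (by unfold IsSporadicGroup; tauto) hN (m := 120) (by norm_num)
    (by decide) (by decide) (fun q hq hd hR => H94.PG.Sp.nr_j1 h hq hd hR) (by norm_num) (by norm_num) (by norm_num)
  obtain ⟨e⟩ := h
  have h5 : Fact (Nat.Prime 5) := ⟨by norm_num⟩
  obtain ⟨x, hx⟩ := exists_prime_orderOf_dvd_card' (G := S) 5 (by rw [hN]; norm_num)
  have hC : Nat.card (centralizer ({x} : Set S)) = 30 := by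
    rw [card_cent_congr e]
    exact H413.JOneLocal.isLocal.cent5 _ (by rw [MulEquiv.orderOf_eq, hx])
  have hnorm := norm_of (N := 175560) (p := 5) (c1 := 6) (m := 30) (N0 := 12) (by norm_num) hN (by norm_num) hx
    (by rw [hC]) (by norm_num) (by rw [hC]) (by decide +kernel)
  obtain ⟨g, hg⟩ := exists_elt (q := 3) (by norm_num) (by norm_num) (by norm_num) (by rw [hN]; norm_num)
    (by rw [hN]; norm_num) hnorm (by norm_num) (by decide)
  exact row T hS hc hH hN (by norm_num) (by norm_num)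
    (mem_of_nr hc (H94.PG.Sp.nr_j1 ⟨e⟩ (by norm_num) (by norm_num) (by decide))) (by norm_num) hnorm hg hI kJ1

end Cfsg.Agent.H468.HCS
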