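import Cfsg.Agent.H468.HCS.Spor
import Cfsg.Agent.H468.HCS.Tab
import Cfsg.Agent.H724.IMJThree

/-!
# Row `J₃` of S4388 (helper468)
-/

set_option autoImplicit false

namespace Cfsg.Agent.H468.HCS

open Subgroup Cfsg Cfsg.Agent.H581 Cfsg.Agent.OrdDiv

universe u

theorem no_j3 (T : OrderTable.{u}) (hS : ∀ (X : Type u) [Group X] [Finite X] [IsSimpleGroup X], IsKnownSimple' X)
    {S : Type u} [Group S] [Finite S] {σ : Set ℕ} (hc : HC S σ) (h : Spor.IsoJ3 S) : False := by
  have hN : Nat.card S = 50232960 := NotCT.Orders.j3 h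
  obtain ⟨H, hH⟩ := hc.exists_hall (by rw [hN]; norm_num)
  have hI : H.index ∈ comps [17, 19] := index_mem hc hH (by unfold IsSporadicGroup; tauto) hN (m := 155520) (by norm_num)
    (by norm_num) (by decide) (fun q hq hd hR => H94.PG.Sp.nr_j3 h hq hd hR) (by norm_num) (by norm_num) (by norm_num)
  obtain ⟨x, hx, hC⟩ := H724.IMJThree.exists_five h
  have hnorm := norm_of (N := 50232960) (p := 5) (c1 := 6) (m := 30) (N0 := 12) (by norm_num) hN (by norm_num) hx
    (by rw [hC]) (by norm_num) (by rw [hC]) (by decide +kernel)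
  obtain ⟨g, hg⟩ := exists_elt (q := 3) (by norm_num) (by norm_num) (by norm_num) (by rw [hN]; norm_num)
    (by rw [hN]; norm_num) hnorm (by norm_num) (by decide)
  exact row T hS hc hH hN (by norm_num) (by norm_num)
    (mem_of_nr hc (H94.PG.Sp.nr_j3 h (by norm_num) (by norm_num) (by decide))) (by norm_num) hnorm hg hI kJ3

end Cfsg.Agent.H468.HCS
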