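import Cfsg.Agent.H468.HCS.Spor
import Cfsg.Agent.H468.HCS.Tab
import Cfsg.Agent.H858.Norm57
import Cfsg.Agent.H859.SylEleven

/-!
# Row `J₄` of S4388 (helper468)

`7 ∈ σ` and `11 ∈ σ`; `|N(⟨x⟩)| = 2520` for `x` of order 7, the normaliser of a Sylow 11-subgroup (order `11³`) has order
prime to 7; by Theorem A (`struct'`) a Hall `σ`-subgroup has a simple section of order divisible by `7 · 11³`: none but `J₄`.
-/

set_option autoImplicit false

namespace Cfsg.Agent.H468.HCS

open Subgroup Cfsg Cfsg.Agent.H581 Cfsg.Agent.OrdDiv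

universe u

/-- normalisers of Sylow subgroups in isomorphic groups -/
theorem card_norm_sylow {S G : Type*} [Group S] [Finite S] [Group G] (e : S ≃* G) {p : ℕ} [Fact p.Prime] {R : Subgroup S}
    (hR : IsPGroup p R) (hRi : ¬ p ∣ R.index) {U : Subgroup G} (hU : IsPGroup p U) (hUi : ¬ p ∣ U.index) :
    Nat.card (normalizer (R : Set S)) = Nat.card (normalizer (U : Set G)) := by
  set V : Subgroup S := U.map e.symm.toMonoidHom with hV
  have hVp : IsPGroup p V := hU.map _
  have hVi : ¬ p ∣ V.index := by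
    rw [hV, Subgroup.index_map_of_bijective e.symm.bijective]
    exact hUi
  have h2 : Nat.card (Sylow p S) = (normalizer ((hR.toSylow hRi : Subgroup S) : Set S)).index :=
    Sylow.card_eq_index_normalizer _
  have h3 : Nat.card (Sylow p S) = (normalizer ((hVp.toSylow hVi : Subgroup S) : Set S)).index :=
    Sylow.card_eq_index_normalizer _
  have h2' : Nat.card (Sylow p S) = (normalizer (R : Set S)).index := h2
  have h3' : Nat.card (Sylow p S) = (normalizer (V : Set S)).index := h3
  have h4 := Subgroup.card_mul_index (normalizer (R : Set S))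
  have h5 := Subgroup.card_mul_index (normalizer (V : Set S))
  rw [← h2'] at h4
  rw [← h3', ← h4] at h5
  have h6 : Nat.card (normalizer (V : Set S)) = Nat.card (normalizer (R : Set S)) :=
    Nat.eq_of_mul_eq_mul_right Nat.card_pos h5
  rw [← h6]
  have h1 : (normalizer (U : Set G)).map e.symm.toMonoidHom = normalizer (V : Set S) := by
    rw [Subgroup.map_equiv_normalizer_eq]
  rw [← h1]
  exact (Nat.card_congr (Subgroup.equivMapOfInjective _ e.symm.toMonoidHom e.symm.injective).toEquiv).symm

theorem no_j4 (T : OrderTable.{u}) (hS : ∀ (X : Type u) [Group X] [Finite X] [IsSimpleGroup X], IsKnownSimple' X)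
    {S : Type u} [Group S] [Finite S] {σ : Set ℕ} (hc : HC S σ) (h : Spor.IsoJ4 S) : False := by
  have hN : Nat.card S = 86775571046077562880 := NotCT.Orders.j4 h
  obtain ⟨H, hH⟩ := hc.exists_hall (by rw [hN]; norm_num)
  have hσ7 : 7 ∈ σ := mem_of_nr hc (H94.PG.Sp.nr_j4 h (by norm_num) (by norm_num) (by decide))
  have hσ11 : 11 ∈ σ := mem_of_nr hc (H94.PG.Sp.nr_j4 h (by norm_num) (by norm_num) (by decide))
  obtain ⟨e⟩ := h
  have f7 : Fact (Nat.Prime 7) := ⟨by norm_num⟩
  have f11 : Fact (Nat.Prime 11) := ⟨by norm_num⟩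
  -- the normaliser of an element of order 7
  have hnorm : ∀ x : S, orderOf x = 7 → Nat.card (normalizer ((zpowers x : Subgroup S) : Set S)) = 2520 := by
    intro x hx
    have hcz : Nat.card (zpowers x) = 7 := by rw [Nat.card_zpowers, hx]
    rw [card_norm_sylow (p := 7) e (IsPGroup.of_card (n := 1) (by rw [hcz, pow_one])) ?_
      H858.Norm57.isPGroup_S7 H858.Norm57.not_dvd_S7, H858.Norm57.card_normalizer_S7]
    intro h1
    have h2 := (zpowers x).card_mul_index
    rw [hcz, hN] at h2
    omega
  -- the normaliser of a Sylow 11-subgroup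
  have hsyl : ∀ R : Subgroup S, Nat.card R = 11 ^ 3 → Nat.card (normalizer (R : Set S)) = 2 ^ 4 * 3 * 5 * 11 ^ 3 := by
    intro R hR
    rw [card_norm_sylow (p := 11) e (IsPGroup.of_card (n := 3) hR) ?_
      H859.SylEleven.isPGroup_U H859.SylEleven.not_dvd_U]
    · exact H859.SylEleven.card_N
    · intro h1
      have h2 := R.card_mul_index
      rw [hR, hN] at h2
      omega
  -- the orders
  have h7H : 7 ∣ Nat.card H := by
    have := hH.dvd_card (r := 7) (k := 1) (by norm_num) hσ7 (by rw [hN]; norm_num)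
    simpa using this
  have h11H : 11 ^ 3 ∣ Nat.card H := hH.dvd_card (r := 11) (k := 3) (by norm_num) hσ11 (by rw [hN]; norm_num)
  have hHS : Nat.card H ∣ 86775571046077562880 := by rw [← hN]; exact Subgroup.card_subgroup_dvd_card H
  obtain ⟨x, hx⟩ := exists_prime_orderOf_dvd_card' (G := H) 7 h7H
  have hx' : orderOf (x : S) = 7 := by rw [orderOf_coe, hx]
  obtain ⟨N, iN, fN, hs, h1, h2, h3⟩ := struct' (by norm_num : Nat.Prime 7) hx (fun h => by
    have := h.trans hHS
    norm_num at this)
  obtain ⟨i, hi, hi7, -, hdv, hR⟩ := h3 11 (by norm_num) (by norm_num) 3 h11H (fun h => by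
    have := h.trans hHS
    norm_num at this)
  have hnx : Nat.card (normalizer ((zpowers x : Subgroup H) : Set H)) ∣ 2520 := by
    have h4 := card_norm (H := H) (x := (x : S)) x.2
    have h5 : (⟨(x : S), x.2⟩ : H) = x := rfl
    rw [h5] at h4
    rw [h4, ← hnorm _ hx']
    exact Subgroup.card_subgroup_dvd_card _
  have hN11 : 11 ^ 3 ∣ Nat.card N := by
    have hi4 : i < 4 := by omega
    interval_cases i
    · have h4 : 11 ^ 3 ∣ Nat.card N * 2520 := hdv.trans (mul_dvd_mul_left _ hnx)
      exact Nat.Coprime.dvd_of_dvd_mul_right (by norm_num) h4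
    · norm_num at hi7
    · norm_num at hi7
    · exfalso
      obtain ⟨R, hRc, hxR⟩ := hR rfl
      have hRc' : Nat.card (R.map H.subtype) = 11 ^ 3 := by
        rw [← hRc]
        exact (Nat.card_congr (R.equivMapOfInjective _ H.subtype_injective).toEquiv).symm
      have h4 := hsyl _ hRc'
      have h5 : (x : S) ∈ normalizer ((R.map H.subtype : Subgroup S) : Set S) :=
        Subgroup.le_normalizer_map H.subtype ⟨x, hxR, rfl⟩
      have h6 := orderOf_dvd_natCard (⟨(x : S), h5⟩ : normalizer ((R.map H.subtype : Subgroup S) : Set S))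
      rw [Subgroup.orderOf_mk, hx', h4] at h6
      norm_num at h6
  have hdN : 7 * 11 ^ 3 ∣ Nat.card N := Nat.Coprime.mul_dvd_of_dvd_of_dvd (by norm_num) h1 hN11
  have hna : ¬ ∀ a b : N, a * b = b * a := by
    intro hab
    let _ : CommGroup N := { (inferInstance : Group N) with mul_comm := hab }
    have h4 : (Nat.card N).Prime := IsSimpleGroup.prime_card
    have h5 : 7 = Nat.card N := (Nat.prime_dvd_prime_iff_eq (by norm_num) h4).1 h1
    rw [← h5] at hN11
    norm_num at hN11
  obtain ⟨g, hg, -, hgo⟩ := exists_good T (hS N) hna vJ4 (h2.trans hHS)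
  have hk := kJ4
  rw [List.all_eq_true] at hk
  have h4 := hk g hg
  rw [Bool.or_eq_true, nbeq_iff, beq_iff, ← hgo] at h4
  rcases h4 with h4 | h4
  · exact h4 (Nat.mod_eq_zero_of_dvd hdN)
  · have h5 : Nat.card S ≤ Nat.card H := by
      rw [hN, ← h4]
      exact Nat.le_of_dvd Nat.card_pos h2
    exact hc.ne_top hH (Subgroup.eq_top_of_le_card H h5)

end Cfsg.Agent.H468.HCS
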