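import Cfsg.Agent.H468.HCS.Spor
import Cfsg.Agent.H468.HCS.Tab
import Cfsg.Agent.H314.LyOrb.NSeven

/-!
# Row `Ly` of S4388 (helper468)
-/

set_option autoImplicit false

namespace Cfsg.Agent.H468.HCS

open Subgroup Cfsg Cfsg.Agent.H581 Cfsg.Agent.OrdDiv

universe u

theorem no_ly (T : OrderTable.{u}) (hS : ∀ (X : Type u) [Group X] [Finite X] [IsSimpleGroup X], IsKnownSimple' X)
    {S : Type u} [Group S] [Finite S] {σ : Set ℕ} (hc : HC S σ) (h : Spor.IsoLy S) : False := by
  have hN : Nat.card S = 51765179004000000 := NotCT.Orders.ly h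
  obtain ⟨H, hH⟩ := hc.exists_hall (by rw [hN]; norm_num)
  have hI : H.index ∈ comps [31, 37, 67] := index_mem hc hH (by unfold IsSporadicGroup; tauto) hN (m := 673596000000)
    (by norm_num) (by norm_num) (by decide) (fun q hq hd hR => H94.PG.Sp.nr_ly h hq hd hR) (by norm_num) (by norm_num)
    (by norm_num)
  have hnr := H94.PG.Sp.nr_ly h (r := 7) (by norm_num) (by norm_num) (by decide)
  obtain ⟨e⟩ := h
  have h7 : Fact (Nat.Prime 7) := ⟨by norm_num⟩
  have hnorm : ∀ x : S, orderOf x = 7 → Nat.card (normalizer ((zpowers x : Subgroup S) : Set S)) = 7 * 144 :=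
    norm_congr e fun y hy => H314.LyOrb.card_normalizer_seven hy
  obtain ⟨g, hg⟩ := exists_prime_orderOf_dvd_card' (G := S) 7 (by rw [hN]; norm_num)
  exact row T hS hc hH hN (by norm_num) (by norm_num) (mem_of_nr hc hnr) (by norm_num) hnorm (m := 1) (by rw [hg])
    hI kLy

end Cfsg.Agent.H468.HCS
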