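import Cfsg.Agent.H468.HCS.Spor
import Cfsg.Agent.H468.HCS.Tab
import Cfsg.Agent.H729.PairMathieu
import Cfsg.Agent.SolvableStructure.HallConverse

/-!
# Rows `M₂₃`, `M₂₄` of S4388 (helper468)
-/

set_option autoImplicit false

namespace Cfsg.Agent.H468.HCS

open Subgroup Cfsg Cfsg.Agent.H581 Cfsg.Agent.OrdDiv
open Cfsg.Agent.SporadicA.GolayBase Cfsg.Agent.SporadicA.GolayPerm Cfsg.Agent.SporadicStructure.M24El
open Cfsg.Agent.H729.Trans Cfsg.Agent.H729.MData Cfsg.Agent.H729.Count Cfsg.Agent.H729.M24Deg Cfsg.Agent.H729.M22Deg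
open Cfsg.Agent.H729.PairMathieu

universe u

theorem exists_m23 : ∃ x : Spor.M23, orderOf x = 5 ∧ ∀ z : Spor.M23, Commute z x → z ^ 15 = 1 := by
  have hc := ok_of_pre preN5
  have h3 : (el cN5 : Equiv.Perm GolayPt) none = none := by
    have h := el_smul_pt hc (none : GolayPt)
    have e : idx none = 23 := rfl
    have e2 : papp cN5 23 = 23 := by decide +kernel
    rw [e, e2] at h
    exact h
  have ho : orderOf (el cN5) = 5 := oM5
  let x : Spor.M23 := ⟨(el cN5 : Equiv.Perm GolayPt), (el cN5).2, h3⟩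
  have hx : inc23 x = el cN5 := rfl
  have hx5 : orderOf x = 5 := by rw [← ho, ← hx]; exact (orderOf_injective inc23 inc23_injective x).symm
  exact ⟨x, hx5, fun u hcu => pow_eq_one_of_list inc23 inc23_injective preN5 hx
    (fun g => st_M23 (by decide +kernel) g) (n := 15) powN5 hcu⟩

theorem elt15_m23 : ∃ g : Spor.M23, orderOf g = 5 * 3 := by
  obtain ⟨-, -, -, x, y, hx, hy, hc⟩ := H94.PG.Sp.adj_m23
  refine ⟨x * y, ?_⟩
  rw [hc.orderOf_mul_eq_mul_orderOf_of_coprime (by rw [hx, hy]; norm_num), hx, hy]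

theorem norm_m23 : ∀ x : Spor.M23, orderOf x = 5 →
    Nat.card (normalizer ((zpowers x : Subgroup Spor.M23) : Set Spor.M23)) = 5 * 12 := by
  have hN : Nat.card Spor.M23 = 10200960 := Cfsg.Agent.SporadicA.MathieuRecog.card_M23
  obtain ⟨x, hx, hz⟩ := exists_m23
  obtain ⟨g, hg⟩ := elt15_m23
  refine norm_of (N := 10200960) (p := 5) (c1 := 9) (m := 15) (N0 := 12) (by norm_num) hN (by norm_num) hx
    (cent_dvd_of_exp (B := 226688) (by rw [hN]) (by norm_num) hz) (by norm_num)
    (dvd_cent_of_orderOf (by norm_num) (by rw [hN]; norm_num) hx hg) (by decide +kernel)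

/-- no subgroup of index 23 or 253 of `M₂₃` contains an element of order 15 -/
theorem m23_false (T : OrderTable.{u}) (hS : ∀ (X : Type u) [Group X] [Finite X] [IsSimpleGroup X], IsKnownSimple' X)
    {X : Type u} [Group X] [Finite X] (e : X ≃* Spor.M23)
    {g : X} (hg : orderOf g = 5 * 3) {H : Subgroup X} (hgH : g ∈ H) (hI : H.index ∈ [23, 253]) : False := by
  have hN : Nat.card X = 10200960 := by
    rw [Nat.card_congr e.toEquiv]; exact Cfsg.Agent.SporadicA.MathieuRecog.card_M23
  have hchk := kM23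
  unfold chkR at hchk
  rw [List.all_eq_true] at hchk
  have h1 := hchk _ hI
  rw [List.any_eq_true] at h1
  obtain ⟨t, -, h2⟩ := h1
  simp only [Bool.and_eq_true, beq_iff] at h2
  obtain ⟨⟨⟨h3, h4⟩, h5⟩, h6⟩ := h2
  have hNn : 10200960 = H.index * (10200960 / H.index) := (Nat.mul_div_cancel' (Nat.dvd_of_mod_eq_zero h4)).symm
  exact false_of_chkA T hS (by norm_num) (n := H.index) (h := 10200960 / H.index) (by rw [hN, ← hNn])
    (by rw [← hNn]; norm_num) (by norm_num) rfl hgH hg (norm_congr e norm_m23) h5 h6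

theorem no_m23 (T : OrderTable.{u}) (hS : ∀ (X : Type u) [Group X] [Finite X] [IsSimpleGroup X], IsKnownSimple' X)
    {S : Type u} [Group S] [Finite S] {σ : Set ℕ} (hc : HC S σ) (h : Spor.IsoM23 S) : False := by
  have hN : Nat.card S = 10200960 := NotCT.Orders.m23 h
  obtain ⟨H, hH⟩ := hc.exists_hall (by rw [hN]; norm_num)
  have hσ : ∀ q : ℕ, q.Prime → q ∣ 10200960 → q ∉ [11, 23] → q ∈ σ := by
    intro q hq hd hR
    by_cases h5 : q = 5
    · rw [h5]
      exact hc.conn hc.two (H94.PG.Sp.conn_five_m23 h).symm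
    · exact mem_of_nr hc (H94.PG.Sp.nr_m23' h hq hd (by simpa [h5] using hR))
  have hd := index_dvd hH hN (R := [11, 23]) (m := 40320) (by norm_num) (by decide) hσ
  have hsub := mem_subs [11, 23] (by norm_num) _ hd
  have hI : H.index ∈ [23, 253] := by
    have hs : IsSimpleGroup S := H14.KnownSimple.sporadic (by unfold IsSporadicGroup; tauto)
    have hna : ¬ IsMulCommutative S := by
      intro hab
      have h1 : ∀ a b : S, a * b = b * a := fun a b => hab.is_comm.comm a b
      let _ : CommGroup S := { (inferInstance : Group S) with mul_comm := h1 }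
      have h2 : (Nat.card S).Prime := IsSimpleGroup.prime_card
      rw [hN] at h2
      revert h2
      norm_num
    have h1 : ¬ H.index = 1 := fun h1 => hc.ne_top hH (Subgroup.index_eq_one.1 h1)
    have h11 : H.index ≠ 11 := by
      intro h11
      rcases H660.SporPrimeIndex.sporadic_prime_index hna (by unfold IsSporadicGroup; tauto) H 11 (by norm_num) h11 with
        ⟨-, h'⟩ | ⟨h', -⟩
      · have := NotCT.Orders.m11 h'
        rw [hN] at this
        norm_num at this
      · norm_num at h'
    simp only [subs, List.map_cons, List.map_nil, List.cons_append, List.nil_append, List.mem_cons,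
      List.not_mem_nil, or_false, mul_one] at hsub
    simp only [List.mem_cons, List.not_mem_nil, or_false]
    rcases hsub with h' | h' | h' | h'
    · exact absurd h' h1
    · exact Or.inl h'
    · exact absurd h' h11
    · exact Or.inr h'
  obtain ⟨g, hg⟩ := elt15_m23
  obtain ⟨e⟩ := h
  have hg' : orderOf (e.symm g) = 5 * 3 := by rw [MulEquiv.orderOf_eq, hg]
  obtain ⟨K, hgK, -, hKi⟩ := exists_hall_mem hc hH (g := e.symm g) (by norm_num : Nat.Prime 5)
    (by rw [hg']; norm_num) (hσ 5 (by norm_num) (by norm_num) (by decide))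
  exact m23_false T hS e hg' hgK (by rw [hKi]; exact hI)

theorem no_m24 (T : OrderTable.{u}) (hS : ∀ (X : Type u) [Group X] [Finite X] [IsSimpleGroup X], IsKnownSimple' X)
    {S : Type u} [Group S] [Finite S] {σ : Set ℕ} (hc : HC S σ) (h : Spor.IsoM24 S) : False := by
  have hN : Nat.card S = 244823040 := NotCT.Orders.m24 h
  obtain ⟨H, hH⟩ := hc.exists_hall (by rw [hN]; norm_num)
  have hI : H.index ∈ comps [11, 23] := index_mem hc hH (by unfold IsSporadicGroup; tauto) hN (m := 967680) (by norm_num)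
    (by norm_num) (by decide) (fun q hq hd hR => H94.PG.Sp.nr_m24' h hq hd hR) (by norm_num) (by norm_num) (by norm_num)
  have hI' : H.index = 253 := by
    have h1 : comps [11, 23] = [253] := by decide
    rw [h1] at hI
    exact List.mem_singleton.1 hI
  obtain ⟨g, hg⟩ := elt15_m23
  have hn5 := H94.PG.Sp.nr_m24' h (r := 5) (by norm_num) (by norm_num) (by decide)
  obtain ⟨e⟩ := h
  set L : Subgroup S := (inc23.range).map e.symm.toMonoidHom with hL
  let e1 : Spor.M23 ≃* inc23.range := MonoidHom.ofInjective inc23_injective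
  let e2 : inc23.range ≃* L := Subgroup.equivMapOfInjective _ e.symm.toMonoidHom e.symm.injective
  let e3 : L ≃* Spor.M23 := (e1.trans e2).symm
  have hLc : Nat.card L = 10200960 := by
    rw [Nat.card_congr e3.toEquiv]; exact Cfsg.Agent.SporadicA.MathieuRecog.card_M23
  have hLi : L.index = 24 := by
    have h1 := L.card_mul_index
    rw [hLc, hN] at h1
    omega
  have hg' : orderOf (e3.symm g) = 5 * 3 := by rw [MulEquiv.orderOf_eq, hg]
  have hgo : orderOf ((e3.symm g : L) : S) = 5 * 3 := by rw [orderOf_coe, hg']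
  obtain ⟨K, hgK, -, hKi⟩ := exists_hall_mem hc hH (g := ((e3.symm g : L) : S)) (by norm_num : Nat.Prime 5)
    (by rw [hgo]; norm_num) (mem_of_nr hc hn5)
  have hrel : K.relIndex L = K.index := SolvableStructure.HallConverse.relIndex_of_coprime L K (by
    rw [hLi, hKi, hI']; norm_num)
  refine m23_false T hS e3 hg' (H := K.subgroupOf L) (mem_subgroupOf.2 hgK) ?_
  have h2 : (K.subgroupOf L).index = 253 := by
    change K.relIndex L = 253
    rw [hrel, hKi, hI']
  rw [h2]
  decide

end Cfsg.Agent.H468.HCS
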