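import Cfsg.Agent.H468.HCS.Spor
import Cfsg.Agent.H468.HCS.Tab
import Cfsg.Agent.H474.ONC.End

/-!
# Row `O'N` of S4388 (helper468)
-/

set_option autoImplicit false

namespace Cfsg.Agent.H468.HCS

open Subgroup Cfsg Cfsg.Agent.H581 Cfsg.Agent.OrdDiv

universe u

theorem no_on (T : OrderTable.{u}) (hS : ∀ (X : Type u) [Group X] [Finite X] [IsSimpleGroup X], IsKnownSimple' X)
    {S : Type u} [Group S] [Finite S] {σ : Set ℕ} (hc : HC S σ) (h : Spor.IsoON S) : False := by
  have hN : Nat.card S = 460815505920 := NotCT.Orders.on h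
  obtain ⟨H, hH⟩ := hc.exists_hall (by rw [hN]; norm_num)
  have hI : H.index ∈ comps [11, 19, 31] := index_mem hc hH (by unfold IsSporadicGroup; tauto) hN (m := 71124480) (by norm_num)
    (by norm_num) (by decide) (fun q hq hd hR => H94.PG.Sp.nr_on h hq hd hR) (by norm_num) (by norm_num) (by norm_num)
  obtain ⟨e⟩ := h
  have hsq : ¬ 5 * 5 ∣ Nat.card S := by rw [hN]; norm_num
  refine rowB T hS hN (p := 5) (by norm_num) (fun x hx y hy => ?_) hI kON
  rw [List.mem_singleton] at hy
  subst hy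
  have hC : Nat.card (centralizer ({x} : Set S)) = 180 := by
    rw [card_cent_congr e]
    exact H474.ONC.card_cent_five (by rw [MulEquiv.orderOf_eq, hx])
  obtain ⟨k, hk, -, -, hk2, -⟩ := H547.SelfCent.arith (by norm_num : Nat.Prime 5) hx hsq
  rw [hk2, hC]
  intro hd
  have h1 : 180 * k ∣ 180 * 4 := Nat.mul_dvd_mul_left _ hk
  have h2 := hd.trans h1
  norm_num at h2

end Cfsg.Agent.H468.HCS
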