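import Cfsg.Agent.H468.HCS.Spor
import Cfsg.Agent.H468.HCS.Tab
import Cfsg.Agent.H812.SuzSeven

/-!
# Row `Suz` of S4388 (helper468)
-/

set_option autoImplicit false

namespace Cfsg.Agent.H468.HCS

open Subgroup Cfsg Cfsg.Agent.H581 Cfsg.Agent.OrdDiv

universe u

theorem no_suz (T : OrderTable.{u}) (hS : ∀ (X : Type u) [Group X] [Finite X] [IsSimpleGroup X], IsKnownSimple' X)
    {S : Type u} [Group S] [Finite S] {σ : Set ℕ} (hc : HC S σ) (h : Spor.IsoSuz S) : False := by
  have hN : Nat.card S = 448345497600 := NotCT.Orders.suz h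
  obtain ⟨H, hH⟩ := hc.exists_hall (by rw [hN]; norm_num)
  have hI : H.index ∈ comps [11, 13] := index_mem hc hH (by unfold IsSporadicGroup; tauto) hN (m := 3135283200) (by norm_num)
    (by norm_num) (by decide) (fun q hq hd hR => H94.PG.Sp.nr_suz h hq hd hR) (by norm_num) (by norm_num) (by norm_num)
  have hnr := H94.PG.Sp.nr_suz h (r := 7) (by norm_num) (by norm_num) (by decide)
  have h7 : Fact (Nat.Prime 7) := ⟨by norm_num⟩
  have hnorm : ∀ x : S, orderOf x = 7 → Nat.card (normalizer ((zpowers x : Subgroup S) : Set S)) = 7 * 72 := by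
    intro x hx
    have hcz : Nat.card (zpowers x) = 7 := by rw [Nat.card_zpowers, hx]
    have hP : IsPGroup 7 (zpowers x) := IsPGroup.of_card (n := 1) (by rw [hcz, pow_one])
    have hidx : ¬ 7 ∣ (zpowers x).index := by
      intro h1
      have h2 := (zpowers x).card_mul_index
      rw [hcz, hN] at h2
      omega
    exact (H812.SuzSeven.main h (hP.toSylow hidx)).2
  obtain ⟨g, hg⟩ := exists_prime_orderOf_dvd_card' (G := S) 7 (by rw [hN]; norm_num)
  exact row T hS hc hH hN (by norm_num) (by norm_num) (mem_of_nr hc hnr) (by norm_num) hnorm (m := 1) (by rw [hg])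
    hI kSuz

end Cfsg.Agent.H468.HCS
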