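import Cfsg.Agent.H468.HCS.Spor
import Cfsg.Agent.H468.HCS.Tab
import Cfsg.Agent.H513.AbTh

/-!
# Row `Th` of S4388 (helper468)

`x` of order 13: `|C(x)|` divides `3¹⁰ · 13 · 19 · 31`, `4 ∣ |N(⟨x⟩) : C(x)|`; by Sylow arithmetic `3 ∣ |C(x)|`.
-/

set_option autoImplicit false

namespace Cfsg.Agent.H468.HCS

open Subgroup Cfsg Cfsg.Agent.H581 Cfsg.Agent.OrdDiv

universe u

open Cfsg.Agent.H498.Ab
open Cfsg.Agent.H513.NilpTools Cfsg.Agent.H513.CentTools Cfsg.Agent.H513.AbTools Cfsg.Agent.H513.NilpTh Cfsg.Agent.H513.AbTh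

namespace ThP

theorem chkK4 : H513.CentTools.chkN 1 634023936 13 [(3, 5)] (fun _ e => Nat.beq (e % 4) 0) = true := by decide +kernel

/-- `4` divides the order of the normaliser of a subgroup of order 13 -/
theorem four_NN {x : Spor.Th} (hx : orderOf x = 13) : 4 ∣ Nat.card ↥(NN x) := by
  have := finite
  have hctx := KFacts.Th.Main.ctx
  obtain ⟨K, hK⟩ : ∃ K : Subgroup Spor.Th, Nat.card ↥K = 634023936 := ⟨_, hctx.cardK⟩
  have h13 : Fact (Nat.Prime 13) := ⟨by norm_num⟩
  obtain ⟨y, hy⟩ := exists_prime_orderOf_dvd_card' (G := ↥K) 13 (by rw [hK]; norm_num)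
  have hy' : orderOf (y : Spor.Th) = 13 := by rw [Subgroup.orderOf_coe, hy]
  rw [card_NN_eq (by norm_num) hx hy' (by rw [card]; norm_num)]
  -- the centralizer in `K`
  have hcd : Nat.card ↥(centralizer ({y} : Set ↥K)) ∣ 3 ^ 10 * 13 * 19 * 31 := by
    have h1 : (centralizer ({y} : Set ↥K)).map K.subtype ≤ centralizer ({(y : Spor.Th)} : Set Spor.Th) := by
      rintro _ ⟨v, hv, rfl⟩
      exact mem_centralizer_singleton_iff.2 (congrArg Subtype.val (mem_centralizer_singleton_iff.1 hv))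
    have h2 := card_dvd_of_le h1
    rw [card_map_of_injective K.subtype_injective] at h2
    exact h2.trans (cent_dvd' (by norm_num) hy' (by norm_num) (by norm_num) (by norm_num))
  have hcd' : Nat.card ↥(centralizer ({y} : Set ↥K)) ∣ 13 * prodL [(3, 5)] := by
    have h1 := card_subgroup_dvd_card (centralizer ({y} : Set ↥K))
    rw [hK] at h1
    have h2 := Nat.dvd_gcd hcd h1
    exact h2.trans (by norm_num [prodL])
  obtain ⟨m, e, -, h3, -, h4⟩ := chk_norm' (x := y) (by norm_num) hy hK (by norm_num) [(3, 5)] (by norm_num) hcd' chkK4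
  have h5 : 4 ∣ Nat.card ↥(NN y) := by
    rw [h3]
    exact Dvd.dvd.mul_left (Nat.dvd_of_mod_eq_zero (Nat.eq_of_beq_eq_true h4)) _
  have h6 : (NN y).map K.subtype ≤ NN (y : Spor.Th) := by
    rintro _ ⟨v, hv, rfl⟩
    have key : ∀ v ∈ NN y, ∀ w ∈ zpowers (y : Spor.Th), (v : Spor.Th) * w * (v : Spor.Th)⁻¹ ∈ zpowers (y : Spor.Th) := by
      rintro v hv w ⟨i, rfl⟩
      obtain ⟨j, hj⟩ := (mem_normalizer_iff.1 hv (y ^ i)).1 ⟨i, rfl⟩
      exact ⟨j, by simpa using congrArg Subtype.val hj⟩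
    rw [mem_normalizer_iff]
    intro w
    refine ⟨fun hw => key v hv w hw, fun hw => ?_⟩
    have h7 := key v⁻¹ (inv_mem hv) _ hw
    have h8 : ((v⁻¹ : ↥K) : Spor.Th) * (K.subtype v * w * (K.subtype v)⁻¹) * ((v⁻¹ : ↥K) : Spor.Th)⁻¹ = w := by
      change (v : Spor.Th)⁻¹ * ((v : Spor.Th) * w * (v : Spor.Th)⁻¹) * ((v : Spor.Th)⁻¹)⁻¹ = w
      group
    rwa [h8] at h7
  have h7 := card_dvd_of_le h6
  rw [card_map_of_injective K.subtype_injective] at h7
  exact h5.trans h7

end ThP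

/-- Sylow arithmetic for the prime 13 -/
theorem th_arith : ∀ c ∈ [1, 19, 31, 589], ∀ e ∈ [4, 12], (6980457222144000 / (c * e)) % 13 ≠ 1 := by decide +kernel

theorem th_three {x : Spor.Th} (hx : orderOf x = 13) : 3 ∣ Nat.card (centralizer ({x} : Set Spor.Th)) := by
  have hfin : Finite Spor.Th := H513.NilpTh.finite
  have hN : Nat.card Spor.Th = 90745943887872000 := H513.NilpTh.card
  have hsq : ¬ 13 * 13 ∣ Nat.card Spor.Th := by rw [hN]; norm_num
  have h13 : Nat.Prime 13 := by norm_num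
  obtain ⟨e, he1, he2, he3, he4, -⟩ := H547.SelfCent.arith h13 hx hsq
  have hd := H513.AbTh.cent_dvd' (x := x) (r := 13) h13 hx (by norm_num) (by norm_num) (by norm_num)
  have h4e : 4 ∣ e := by
    have h1 : 4 ∣ Nat.card (centralizer ({x} : Set Spor.Th)) * e := by
      rw [← he4]
      exact ThP.four_NN hx
    refine Nat.Coprime.dvd_of_dvd_mul_left ?_ h1
    exact Nat.Coprime.coprime_dvd_right hd (by norm_num)
  by_contra h3
  have hpC : 13 ∣ Nat.card (centralizer ({x} : Set Spor.Th)) := by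
    have h4 : zpowers x ≤ centralizer ({x} : Set Spor.Th) := by
      rw [zpowers_le, mem_centralizer_singleton_iff]
    have h5 := card_dvd_of_le h4
    rwa [Nat.card_zpowers, hx] at h5
  obtain ⟨c, hc⟩ := hpC
  rw [hc] at hd h3 he2 he3
  have hc1 : c ∣ 3 ^ 10 * 589 := by
    have h6 : 13 * c ∣ 13 * (3 ^ 10 * 589) := by
      refine hd.trans ?_
      norm_num
    exact Nat.dvd_of_mul_dvd_mul_left (by norm_num) h6
  have hc2 : c ∣ 589 := by
    refine Nat.Coprime.dvd_of_dvd_mul_left ?_ hc1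
    rw [Nat.coprime_comm]
    apply Nat.Coprime.pow_left
    rw [Nat.Prime.coprime_iff_not_dvd Nat.prime_three]
    exact fun h => h3 (h.mul_left _)
  have hcm : c ∈ [1, 19, 31, 589] := by
    have h7 : c ∈ Nat.divisors 589 := Nat.mem_divisors.2 ⟨hc2, by norm_num⟩
    have h8 : Nat.divisors 589 = {1, 19, 31, 589} := by decide +kernel
    rw [h8] at h7
    simpa using h7
  have hem : e ∈ [4, 12] := by
    have h9 : e ∣ 12 := he1
    have h10 : e ≤ 12 := Nat.le_of_dvd (by norm_num) h9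
    obtain ⟨k, rfl⟩ := h4e
    have hk : k ≤ 3 := by omega
    interval_cases k
    · norm_num at h9
    · simp
    · norm_num at h9
    · simp
  have h11 := th_arith c hcm e hem
  apply h11
  have h12 : Nat.card Spor.Th / (13 * c * e) = 6980457222144000 / (c * e) := by
    rw [hN, mul_assoc, ← Nat.div_div_eq_div_mul]
  rw [← h12]
  exact he3

theorem no_th (T : OrderTable.{u}) (hS : ∀ (X : Type u) [Group X] [Finite X] [IsSimpleGroup X], IsKnownSimple' X)
    {S : Type u} [Group S] [Finite S] {σ : Set ℕ} (hc : HC S σ) (h : Spor.IsoTh S) : False := by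
  have hN : Nat.card S = 90745943887872000 := NotCT.Orders.th h
  obtain ⟨H, hH⟩ := hc.exists_hall (by rw [hN]; norm_num)
  have hI : H.index ∈ comps [13, 19, 31] := index_mem hc hH (by unfold IsSporadicGroup; tauto) hN (m := 11851370496000)
    (by norm_num) (by norm_num) (by decide) (fun q hq hd hR => H94.PG.Sp.nr_th h hq hd hR) (by norm_num) (by norm_num)
    (by norm_num)
  have h3σ : 3 ∈ σ := mem_of_nr hc (H94.PG.Sp.nr_th h (r := 3) (by norm_num) (by norm_num) (by decide))
  obtain ⟨e⟩ := h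
  have f13 : Fact (Nat.Prime 13) := ⟨by norm_num⟩
  have f3 : Fact (Nat.Prime 3) := ⟨by norm_num⟩
  have h13 : Nat.Prime 13 := by norm_num
  have hsq : ¬ 13 * 13 ∣ Nat.card S := by rw [hN]; norm_num
  have h13σ : 13 ∈ σ := by
    obtain ⟨x, hx⟩ := exists_prime_orderOf_dvd_card' (G := S) 13 (by rw [hN]; norm_num)
    have h1 : 3 ∣ Nat.card (centralizer ({x} : Set S)) := by
      rw [card_cent_congr e]
      exact th_three (by rw [MulEquiv.orderOf_eq, hx])
    obtain ⟨y, hy⟩ := exists_prime_orderOf_dvd_card' (G := centralizer ({x} : Set S)) 3 h1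
    exact hc.commute h3σ (x := (y : S)) (y := x) (mem_centralizer_singleton_iff.1 y.2) (by norm_num) h13
      (by rw [orderOf_coe, hy]) (by rw [hx])
  have hI' : H.index ∈ [589] := by
    have h1 : ¬ 13 ∣ H.index := hH.index 13 h13 h13σ
    have h2 : comps [13, 19, 31] = [589, 403, 247, 7657] := by decide
    rw [h2] at hI
    simp only [List.mem_cons, List.not_mem_nil, or_false] at hI ⊢
    rcases hI with h | h | h | h
    · exact h
    all_goals (rw [h] at h1; norm_num at h1)
  refine rowB T hS hN (p := 13) h13 (fun x hx y hy => ?_) hI' kTh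
  have hC : Nat.card (centralizer ({x} : Set S)) ∣ 3 ^ 10 * 13 * 19 * 31 := by
    rw [card_cent_congr e]
    exact H513.AbTh.cent_dvd' (r := 13) h13 (by rw [MulEquiv.orderOf_eq, hx]) (by norm_num) (by norm_num) (by norm_num)
  obtain ⟨k, hk, -, -, hk2, -⟩ := H547.SelfCent.arith h13 hx hsq
  rw [hk2]
  intro hd
  have h1 := hd.trans (Nat.mul_dvd_mul hC hk)
  simp only [List.mem_cons, List.not_mem_nil, or_false] at hy
  rcases hy with rfl | rfl
  · norm_num at h1
  · norm_num at h1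

end Cfsg.Agent.H468.HCS
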