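import Cfsg.Agent.H468.HCS.Tools
import Cfsg.Agent.H94.Sp.AC
import Cfsg.Agent.H660.SporPrimeIndex
import Cfsg.Agent.H14.KnownSimple

/-!
# Possible indices for the sporadic groups (helper468, for S4388)
-/

set_option autoImplicit false

namespace Cfsg.Agent.H468.HCS

open Subgroup Cfsg Cfsg.Agent.H581

universe u

theorem mem_of_nr {S : Type u} [Group S] {σ : Set ℕ} (hc : HC S σ) {q : ℕ} (h : H94.PG.Sp.Nr S q) : q ∈ σ :=
  hc.conn hc.two h.conn.symm

/-- no index 1 or prime -/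
theorem index_mem {S : Type u} [Group S] [Finite S] {σ : Set ℕ} (hc : HC S σ) {H : Subgroup S} (hH : IsHallFor σ H)
    (hsp : IsSporadicGroup S) {N m : ℕ} {R : List ℕ} (hN : Nat.card S = N) (hNm : N = R.prod * m)
    (hRp : ∀ r ∈ R, r.Prime) (hRm : ∀ r ∈ R, ¬ r ∣ m) (hσ : ∀ q : ℕ, q.Prime → q ∣ N → q ∉ R → H94.PG.Sp.Nr S q)
    (hNp : ¬ N.Prime) (h11 : N ≠ 7920) (h23 : N ≠ 10200960) : H.index ∈ comps R := by
  have : IsSimpleGroup S := H14.KnownSimple.sporadic hsp
  have hna : ¬ IsMulCommutative S := by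
    intro hab
    have h1 : ∀ a b : S, a * b = b * a := fun a b => hab.is_comm.comm a b
    let _ : CommGroup S := { (inferInstance : Group S) with mul_comm := h1 }
    exact hNp (hN ▸ IsSimpleGroup.prime_card)
  refine comp_index hc hH hN hNm hRp hRm (fun q hq hqN hqR => mem_of_nr hc (hσ q hq hqN hqR)) fun K p hp hK => ?_
  rcases H660.SporPrimeIndex.sporadic_prime_index hna hsp K p hp hK with ⟨-, h⟩ | ⟨-, h⟩
  · exact h11 (by rw [← hN, NotCT.Orders.m11 h])
  · exact h23 (by rw [← hN, NotCT.Orders.m23 h])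

end Cfsg.Agent.H468.HCS
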